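import Cfsg.Agent.Mrg.Omega.NO3S.MidB.Base

section


/-!
# NO-3S, natural lines, critical distance 2: `Mid` + (NO) gives `TypN` (bb OMEGA #19438, #20170): (E) BETA

`Mv V Z A R B f k`, `x := R ^ k`, (D) for `x`, `x' := R ^ k⁻¹`, `[W_x, W_R] = 1`: then `(A, B)` is inner
(helper465 #18549, helper621 #19900 section 2): `W_x ≤ O₂(C_G(W_R))`, `|W_x ∩ K_B| ≤ |W_x ∩ W_A|` (the map
`d ↦ [d, f] ∈ B`, its kernel and `x` are in `W_x ∩ W_A`), so by (NO) `C_{W_B}(W_x mod B) = W_B ∩ W_R`.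
-/

set_option autoImplicit false
set_option linter.unusedSectionVars false

namespace Cfsg.Agent.Omega.NO3S.MidB.No

open Subgroup Cfsg.Agent.Omega.NO3S.PT Cfsg.Agent.Omega.NoFF.Basic Cfsg.Agent.ZN
open Cfsg.Agent.Omega.NO3S.MidQ (Adj Com Cr UU isCj_iff com_cj le_UU normalizer_le_UU)
open Cfsg.Agent.MinSimple.VModule (le_o2 o2_le o2_isPGroup le_normalizer_o2)
open scoped Pointwise

variable {G : Type*} [Group G] {V Z A R B : Subgroup G} {f k : G}

theorem card_relIndex [Finite G] (K D : Subgroup G) : K.relIndex D * Nat.card (K ⊓ D : Subgroup G) = Nat.card D := by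
  have h1 := Subgroup.card_mul_index (K.subgroupOf D)
  rw [← inf_subgroupOf_right, Nat.card_congr (subgroupOfEquivOfLe inf_le_right).toEquiv] at h1
  rw [mul_comm]
  rw [relIndex, ← inf_subgroupOf_right]
  exact h1

/-- two disjoint subgroups of `I` -/
theorem card_mul_le' [Finite G] {X Y I : Subgroup G} (hX : X ≤ I) (hY : Y ≤ I) (hd : ∀ x ∈ X, x ∈ Y → x = 1) :
    Nat.card X * Nat.card Y ≤ Nat.card I := by
  rw [← Nat.card_prod]
  refine Nat.card_le_card_of_injective (fun p : X × Y => (⟨(p.1 : G) * p.2, mul_mem (hX p.1.2) (hY p.2.2)⟩ : I)) ?_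
  intro p q e
  have e' : (p.1 : G) * p.2 = q.1 * q.2 := congrArg Subtype.val e
  have h1 : (q.1 : G)⁻¹ * p.1 = q.2 * (p.2 : G)⁻¹ := by
    rw [eq_mul_inv_iff_mul_eq, mul_assoc, e', inv_mul_cancel_left]
  have h2 : (q.1 : G)⁻¹ * p.1 = 1 := hd _ (mul_mem (inv_mem q.1.2) p.1.2) (by
    rw [h1]
    exact mul_mem q.2.2 (inv_mem p.2.2))
  have h3 : (q.2 : G) * (p.2 : G)⁻¹ = 1 := by rw [← h1, h2]
  refine Prod.ext (Subtype.ext ?_) (Subtype.ext ?_)
  · exact (inv_mul_eq_one.1 h2).symm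
  · exact (mul_inv_eq_one.1 h3).symm

/-- `|E| ≤ |B| |C_E(f)|` -/
theorem card_le_ker [Finite G] {E B C : Subgroup G} {f : G} (h1 : ∀ d ∈ E, d * f * d⁻¹ * f⁻¹ ∈ B)
    (h2 : ∀ d ∈ E, ∀ b ∈ B, d * b = b * d) (h3 : ∀ a ∈ B, ∀ b ∈ B, a * b = b * a)
    (hC : ∀ d ∈ E, d * f = f * d → d ∈ C) : Nat.card E ≤ Nat.card B * Nat.card C := by
  let φ : E →* B :=
    { toFun := fun d => ⟨(d : G) * f * (d : G)⁻¹ * f⁻¹, h1 d d.2⟩
      map_one' := Subtype.ext (by
        show (1 : G) * f * (1 : G)⁻¹ * f⁻¹ = 1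
        group)
      map_mul' := fun d e => Subtype.ext (by
        show ((d : G) * e) * f * ((d : G) * e)⁻¹ * f⁻¹ = (d : G) * f * (d : G)⁻¹ * f⁻¹ * ((e : G) * f * (e : G)⁻¹ * f⁻¹)
        have h4 := h2 d d.2 _ (h1 e e.2)
        calc ((d : G) * e) * f * ((d : G) * e)⁻¹ * f⁻¹
            = (d : G) * ((e : G) * f * (e : G)⁻¹ * f⁻¹) * (d : G)⁻¹ * ((d : G) * f * (d : G)⁻¹ * f⁻¹) := by group
          _ = ((e : G) * f * (e : G)⁻¹ * f⁻¹) * ((d : G) * f * (d : G)⁻¹ * f⁻¹) := by rw [h4]; group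
          _ = _ := h3 _ (h1 e e.2) _ (h1 d d.2)) }
  have h5 := Subgroup.card_mul_index φ.ker
  rw [Subgroup.index_ker] at h5
  rw [← h5, mul_comm]
  refine Nat.mul_le_mul (Subgroup.card_le_card_group _) ?_
  refine Nat.card_le_card_of_injective (fun d : φ.ker => (⟨(d : E), hC _ (d : E).2 ?_⟩ : C)) ?_
  · have h6 : φ d = 1 := d.2
    have h7 : ((d : E) : G) * f * ((d : E) : G)⁻¹ * f⁻¹ = 1 := congrArg Subtype.val h6
    exact Mid.comm_eq h7
  · intro d e h6
    exact Subtype.ext (Subtype.ext (congrArg (fun c : C => (c : G)) h6))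

variable [Finite G] {S : Sylow 2 G} {P : Subgroup G} (h : Mid S P V Z)
include h

/-- `|W_X|` does not depend on the point `X` -/
theorem card_ws {X Y : Subgroup G} (hX : IsCj Z X) (hY : IsCj Z Y) : Nat.card (ws V X) = Nat.card (ws V Y) := by
  obtain ⟨g, rfl⟩ := hX
  obtain ⟨g', rfl⟩ := hY
  rw [ws_cj, ws_cj, card_cj, card_cj]

/-- `|W_X ∩ W_Y|` does not depend on `X ~ Y` -/
theorem card_inf {X Y X' Y' : Subgroup G} (hX : Adj V Z X Y) (hX' : Adj V Z X' Y') :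
    Nat.card (ws V X ⊓ ws V Y : Subgroup G) = Nat.card (ws V X' ⊓ ws V Y' : Subgroup G) := by
  obtain ⟨L, hL, h1, h2⟩ := hX.line
  obtain ⟨L', hL', h1', h2'⟩ := hX'.line
  obtain ⟨g, e1, e2⟩ := h.exists_conj₂ hX.left hL h1 hX'.left hL' h1'
  have h3 : cj g (ws V X ⊓ ws V Y) = ws V X' ⊓ ws V Y' := by
    rw [cj_inf, ← ws_cj, ← ws_cj, ← e1]
    refine h.inf_ws hL' hX'.left (hX.right.cj g) hX'.left hX'.right h1' ?_ h1' h2' ?_ hX'.ne
    · rw [e2]
      exact cj_le_cj.2 h2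
    · rw [e1]
      exact fun e => hX.ne (cj_inj.1 e)
  rw [← h3, card_cj]

/-- `C_{W_B}(D mod B)` -/
def cmod {B : Subgroup G} (hB : IsCj Z B) (D : Subgroup G) : Subgroup G where
  carrier := {u | u ∈ ws V B ∧ ∀ d ∈ D, d * u * d⁻¹ * u⁻¹ ∈ B}
  one_mem' := ⟨one_mem _, fun d _ => by simp⟩
  mul_mem' := by
    rintro a b ⟨ha, ha'⟩ ⟨hb, hb'⟩
    refine ⟨mul_mem ha hb, fun d hd => ?_⟩
    have h1 := h.ws_comm hB ha (h.pt_le_ws hB (hb' d hd))
    have e : d * (a * b) * d⁻¹ * (a * b)⁻¹ = d * a * d⁻¹ * a⁻¹ * (a * (d * b * d⁻¹ * b⁻¹) * a⁻¹) := by group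
    rw [e, h1, mul_inv_cancel_right]
    exact mul_mem (ha' d hd) (hb' d hd)
  inv_mem' := by
    rintro a ⟨ha, ha'⟩
    refine ⟨inv_mem ha, fun d hd => ?_⟩
    rw [h.ws_inv hB ha]
    have h1 := ha' d hd
    have h2 : d * a * d⁻¹ * a = d * a * d⁻¹ * a⁻¹ := by rw [h.ws_inv hB ha]
    rw [inv_eq_of_mul_eq_one_left (h.ws_sq hB ha)]
    exact h2 ▸ h1

omit h in
/-- **BETA** -/
theorem Mv.inn_beta (h : Mid S P V Z) (m : Mv V Z A R B f k) (hd : DD V A R k 1) (hx : Com V (cj k R) R)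
    (hno : NOg V Z) : Inn V Z A R B := by
  set x := cj k R with hxdef
  have hxA : Adj V Z x A := m.adjx
  have hRA : Adj V Z A R := m.cr.l
  have hRB : Adj V Z R B := m.cr.r
  have hB : IsCj Z B := hRB.right
  obtain ⟨L, hL, hRL, hBL⟩ := hRB.line
  set D := ws V x with hD
  set I := ws V x ⊓ ws V A with hI
  have hDR : D ≤ centralizer ((ws V R : Subgroup G) : Set G) := hx
  have hBR : B ≤ ws V R := h.adj_le_ws hRB
  have hDB : ∀ d ∈ D, ∀ b ∈ B, d * b = b * d := fun d hd b hb => (mem_centralizer_iff.1 (hDR hd) b (hBR hb)).symm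
  -- `D ≤ O₂(C(W_R))`
  have hDo : D ≤ o2 (centralizer ((ws V R : Subgroup G) : Set G)) := by
    have h1 : UU V Z A ⊓ centralizer ((ws V R : Subgroup G) : Set G) ≤
        o2 (centralizer ((ws V R : Subgroup G) : Set G)) := by
      refine le_o2 inf_le_right ((h.isPGroup_UU A).to_le inf_le_left) ?_
      intro c hc
      have hcA : c ∈ normalizer (A : Set G) :=
        centralizer_le_normalizer _ (centralizer_le (h.adj_le_ws hRA.symm) hc)
      have h2 : cj c (UU V Z A ⊓ centralizer ((ws V R : Subgroup G) : Set G)) =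
          UU V Z A ⊓ centralizer ((ws V R : Subgroup G) : Set G) := by
        rw [cj_inf, cj_eq_iff.2 (normalizer_le_UU V Z A hcA)]
        congr 1
        rw [cj_eq_iff]
        exact le_normalizer hc
      exact cj_eq_iff.1 h2
    exact (le_inf (le_UU hxA) hDR).trans h1
  -- (NO)
  have hLR : L ≤ ws V R := le_ws hL hRL
  have hno' := hno B L (o2 (centralizer ((ws V R : Subgroup G) : Set G))) D (cmod h hB D) hB hL hBL
    ((o2_le _).trans (centralizer_le hLR)) ?_ ?_ hDo ?_ (fun u => Iff.rfl)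
  rotate_left
  · intro c hc
    have hcR : c ∈ normalizer (R : Set G) := centralizer_le_normalizer _ (centralizer_le hRL hc)
    have h1 : cj c (ws V R) = ws V R := by
      rw [cj_eq_iff]
      exact normalizer_le_ws V R hcR
    have h2 : cj c (centralizer ((ws V R : Subgroup G) : Set G)) = centralizer ((ws V R : Subgroup G) : Set G) := by
      rw [cj_centralizer, h1]
    have h3 : cj c (o2 (centralizer ((ws V R : Subgroup G) : Set G))) = o2 (centralizer ((ws V R : Subgroup G) : Set G)) := by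
      nth_rw 2 [← h2]
      exact (Cfsg.Agent.MinSimple.CosetFam.o2_conj c _).symm
    exact cj_eq_iff.1 h3
  · intro g hg
    obtain ⟨n, hn⟩ := o2_isPGroup (centralizer ((ws V R : Subgroup G) : Set G)) ⟨g, hg⟩
    refine ⟨n, ?_⟩
    have h1 : g ^ 2 ^ n = 1 := by simpa using congrArg Subtype.val hn
    rw [h1]
    exact one_mem _
  · intro d hd
    rw [h.ws_sq hxA.left hd]
    exact one_mem _
  -- the count
  have h1 := card_relIndex (kx V B) D
  have h2 : Nat.card (kx V B ⊓ D : Subgroup G) ≤ Nat.card I := by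
    have h3 : Nat.card (kx V B ⊓ D : Subgroup G) ≤
        Nat.card B * Nat.card (D ⊓ centralizer ({f} : Set G) : Subgroup G) := by
      refine card_le_ker (f := f) (fun d hd => (mem_kx.1 hd.1).2 f m.mem) (fun d hd b hb => hDB d hd.2 b hb)
        (fun a ha b hb => h.ws_comm hB (h.pt_le_ws hB ha) (h.pt_le_ws hB hb)) fun d hd e => ⟨hd.2, ?_⟩
      exact mem_centralizer_singleton_iff.2 e
    have h4 : Nat.card (D ⊓ centralizer ({f} : Set G) : Subgroup G) * Nat.card x ≤ Nat.card I := by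
      refine card_mul_le' ?_ (le_inf (h.pt_le_ws hxA.left) (h.adj_le_ws' hxA)) ?_
      · rintro d ⟨hd1, hd2⟩
        have hd3 : d * f = f * d := mem_centralizer_singleton_iff.1 hd2
        exact ⟨hd1, m.mem_of_comm h hd hd1 hd3.symm⟩
      · rintro d ⟨hd1, hd2⟩ hdx
        have hd3 : d * f = f * d := mem_centralizer_singleton_iff.1 hd2
        refine h.pt_inf hxA.left m.adj'.left (m.ne_x h) hdx ?_
        rw [← m.f_x h, mem_cj, mul_assoc, hd3, inv_mul_cancel_left]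
        exact hdx
    have h5 : Nat.card x = Nat.card B := by
      obtain ⟨g, hg⟩ := hxA.left
      obtain ⟨g', hg'⟩ := hB
      rw [hg, hg', card_cj, card_cj]
    rw [h5, mul_comm] at h4
    exact h3.trans h4
  have h3 : Nat.card (cmod h hB D) ≤ Nat.card (ws V R ⊓ ws V B : Subgroup G) := by
    rw [card_ws h hB hxA.left, ← hD, ← h1] at hno'
    rw [← card_inf h hxA hRB]
    have h6 : 0 < (kx V B).relIndex D := by
      rcases Nat.eq_zero_or_pos ((kx V B).relIndex D) with h7 | h7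
      · rw [h7, zero_mul] at h1
        exact absurd h1.symm Nat.card_pos.ne'
      · exact h7
    exact (Nat.le_of_mul_le_mul_left hno' h6).trans h2
  have h4 : ws V R ⊓ ws V B ≤ cmod h hB D := by
    rintro u ⟨hu, hu'⟩
    refine ⟨hu', fun d hd => ?_⟩
    rw [Mid.comm_one (mem_centralizer_iff.1 (hDR hd) u hu).symm]
    exact one_mem _
  have h5 : ws V R ⊓ ws V B = cmod h hB D := Subgroup.eq_of_le_of_card_ge h4 h3
  refine ⟨m.cr, fun a ha b hb => ?_⟩
  have h6 := h.comm_mem m.cr ha hb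
  have h7 : a * b * a⁻¹ * b⁻¹ ∈ cmod h hB D := by
    refine ⟨h6.2, fun d hd => ?_⟩
    rw [Mid.comm_one (mem_centralizer_iff.1 (h.com x A hxA hd) _ h6.1).symm]
    exact one_mem _
  rw [← h5] at h7
  exact h7.1

end Cfsg.Agent.Omega.NO3S.MidB.No

end

section


/-!
# NO-3S, natural lines, critical distance 2: `Mid` + (NO) gives `TypN` (bb OMEGA #19438, #20170): (E) + (F)

`Mv.flat_of` : a (D)-pair of a critical pair `(A, B)` with `[W_A, W_B] ≰ R` gives the input of `Mid.typN_of_flat`: a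
critical pair `(C, R)` with middle point `A`, `[W_C, W_R] ≤ A`, and commuting `w ∈ W_C`, `u ∈ W_R` such that `w` moves
`W_R` and `u` moves `W_C`.
-/

set_option autoImplicit false
set_option linter.unusedSectionVars false

namespace Cfsg.Agent.Omega.NO3S.MidB.No

open Subgroup Cfsg.Agent.Omega.NO3S.PT Cfsg.Agent.Omega.NoFF.Basic Cfsg.Agent.ZN
open Cfsg.Agent.Omega.NO3S.MidQ (Adj Com Cr UU isCj_iff com_cj le_UU normalizer_le_UU)

variable {G : Type*} [Group G] [Finite G] {V Z A R B : Subgroup G} {f k : G} {S : Sylow 2 G} {P : Subgroup G}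

/-- **(E) + (F)** -/
theorem Mv.flat_of (h : Mid S P V Z) (m : Mv V Z A R B f k) {i : ℕ} (hi : k ^ i ≠ 1) (hd : DD V A R k i)
    (hno : NOg V Z) (hI : InnN V Z) (hbad : ¬ ∀ a ∈ ws V A, ∀ b ∈ ws V B, a * b * a⁻¹ * b⁻¹ ∈ R) :
    ∃ C : Subgroup G, Cr V Z C A R ∧ (∀ a ∈ ws V C, ∀ b ∈ ws V R, a * b * a⁻¹ * b⁻¹ ∈ A) ∧
      ∃ w ∈ ws V C, ∃ u ∈ ws V R, w * u = u * w ∧ (∃ b ∈ ws V R, w * b ≠ b * w) ∧
        ∃ a ∈ ws V C, a * u ≠ u * a := by
  have m' := m.pwm hi
  have hd' := dd_pow.2 hd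
  have hx : ¬ Com V (cj (k ^ i) R) R := fun hx => hbad (hI _ _ _ (m'.inn_beta h hd' hx hno))
  have h1 := m'.inn_alpha h hd' hx
  exact ⟨_, h1.cr, hI _ _ _ h1, m'.flat h hd' hx hI⟩

end Cfsg.Agent.Omega.NO3S.MidB.No

end
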