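import Cfsg.Agent.Mrg.Omega.NO3S.MidB.Base
import Cfsg.Agent.Omega.NO3S.MidB.No.Card
import Cfsg.Agent.Mrg.Omega.NO3S.ThmB.Main
import Cfsg.Agent.Mrg.Omega.NO3S.MidB.Mod
import Mathlib.LinearAlgebra.Dual.Lemmas
import Mathlib.Algebra.Module.ZMod

section


/-!
# NO-3S, natural lines, critical distance 2: `K̂_X` is full (`FullK`)

* `card_ws_le` : `|W_X / X| ≤ |K_X : C_{K_X}(W_X)|` (as homomorphisms `W_X / X → X`);
* `FullK.at` : `FullK V Z` for every point `X`;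
* `full` : **`C_{W_X}(K_X ∩ C(L)) = L`** for every flag `(X, L)`.
-/

set_option autoImplicit false
set_option linter.unusedSectionVars false

namespace Cfsg.Agent.Omega.NO3S.MidB.No

open Subgroup Cfsg.Agent.Omega.NO3S.PT Cfsg.Agent.Omega.NoFF.Basic Cfsg.Agent.ZN
open Cfsg.Agent.Omega.NO3S.MidQ (Adj Com Cr UU isCj_iff kx_of)
open scoped Pointwise

universe u

/-! ### Dual groups -/

/-- a family of `𝔽₂`-characters separating the points is not larger than the group -/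
theorem card_le_of_sep {K M : Type*} [AddCommGroup K] [AddCommGroup M] [Finite K] [Finite M]
    (hK : ∀ k : K, k + k = 0) (p : M →+ (K →+ ZMod 2)) (hp : Function.Injective p) : Nat.card M ≤ Nat.card K := by
  have hf : Finite (K →+ ZMod 2) := DFunLike.finite _
  have h1 := card_le_of_lines (M := K) (Λ := ZMod 2) (ι := {k : K // k ≠ 0})
    (fun j => AddSubgroup.zmultiples j.1) (fun j => by
      have h2 : AddSubgroup.zmultiples j.1 ≠ ⊥ := by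
        rw [Ne, AddSubgroup.zmultiples_eq_bot]
        exact j.2
      have h3 := (AddSubgroup.one_lt_card_iff_ne_bot (AddSubgroup.zmultiples j.1)).2 h2
      rw [Nat.card_zmod]
      exact h3)
    p.range (fun φ _ hφ => by
      ext k
      by_cases hk : k = 0
      · rw [hk, map_zero, map_zero]
      · exact hφ ⟨k, hk⟩ k (AddSubgroup.mem_zmultiples k))
    (fun φ _ j b hb hb0 hφb c hc => by
      obtain ⟨n, rfl⟩ := AddSubgroup.mem_zmultiples_iff.1 hb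
      obtain ⟨m, rfl⟩ := AddSubgroup.mem_zmultiples_iff.1 hc
      by_cases hj : φ j.1 = 0
      · rw [map_zsmul, hj, smul_zero]
      · exfalso
        have h4 : φ j.1 = 1 := by
          have key : ∀ z : ZMod 2, z ≠ 0 → z = 1 := by decide
          exact key _ hj
        rw [map_zsmul, h4, zsmul_one] at hφb
        have h5 : (2 : ℤ) ∣ n := (ZMod.intCast_zmod_eq_zero_iff_dvd n 2).1 hφb
        obtain ⟨m, rfl⟩ := h5
        apply hb0
        rw [mul_zsmul', two_zsmul, hK, zsmul_zero])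
    ⊥ (fun m hm φ _ => by rw [AddSubgroup.mem_bot.1 hm, map_zero])
  rw [AddSubgroup.card_bot, mul_one] at h1
  refine le_trans ?_ h1
  exact Nat.card_le_card_of_injective (fun m => (⟨p m, m, rfl⟩ : p.range)) fun a b e =>
    hp (congrArg Subtype.val e)

/-! ### A point as an additive group -/

section

variable {G : Type u} [Group G] {V Z X Y R L A : Subgroup G}

/-- `ι : X → Λ` is an isomorphism -/
structure Lm {Λ : Type*} [AddCommGroup Λ] (X : Subgroup G) (ι : G → Λ) : Prop where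
  fin : Finite Λ
  mul : ∀ a ∈ X, ∀ b ∈ X, ι (a * b) = ι a + ι b
  ker : ∀ a ∈ X, ι a = 0 → a = 1
  surj : ∀ m, ∃ a ∈ X, ι a = m

namespace Lm

variable {Λ : Type*} [AddCommGroup Λ] {ι : G → Λ} (hΛ : Lm X ι)
include hΛ

theorem map_one : ι 1 = 0 := by
  have h1 := hΛ.mul 1 (one_mem _) 1 (one_mem _)
  rw [mul_one] at h1
  exact left_eq_add.1 h1

theorem map_inv {a : G} (ha : a ∈ X) : ι a⁻¹ = - ι a := by
  have h1 := hΛ.mul a ha a⁻¹ (inv_mem ha)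
  rw [mul_inv_cancel, hΛ.map_one] at h1
  exact (neg_eq_of_add_eq_zero_right h1.symm).symm

theorem inj {a b : G} (ha : a ∈ X) (hb : b ∈ X) (e : ι a = ι b) : a = b := by
  rw [← mul_inv_eq_one]
  apply hΛ.ker _ (mul_mem ha (inv_mem hb))
  rw [hΛ.mul a ha _ (inv_mem hb), hΛ.map_inv hb, e, add_neg_cancel]

theorem card : Nat.card Λ = Nat.card X := by
  refine (Nat.card_congr (Equiv.ofBijective (fun a : X => ι a) ⟨fun a b e => ?_, fun m => ?_⟩)).symm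
  · exact Subtype.ext (hΛ.inj a.2 b.2 e)
  · obtain ⟨a, ha, e⟩ := hΛ.surj m
    exact ⟨⟨a, ha⟩, e⟩

end Lm

variable [Finite G] {S : Sylow 2 G} {P : Subgroup G}

theorem exists_lm (h : Mid S P V Z) (hX : IsCj Z X) :
    ∃ (Λ : Type u) (_ : AddCommGroup Λ) (ι : G → Λ), Lm X ι := by
  classical
  let _ : CommGroup X :=
    { (inferInstance : Group X) with
      mul_comm := fun a b => Subtype.ext (h.ws_comm hX (h.pt_le_ws hX a.2) (h.pt_le_ws hX b.2)) }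
  let ι : G → Additive X := fun w => if hw : w ∈ X then Additive.ofMul ⟨w, hw⟩ else 0
  have hι : ∀ w (hw : w ∈ X), ι w = Additive.ofMul ⟨w, hw⟩ := fun w hw => dif_pos hw
  refine ⟨Additive X, inferInstance, ι, ?_, ?_, ?_, ?_⟩
  · exact (inferInstance : Finite X)
  · intro a ha b hb
    rw [hι a ha, hι b hb, hι _ (mul_mem ha hb)]
    rfl
  · intro a ha e
    rw [hι a ha] at e
    exact congrArg (fun t : X => (t : G)) e
  · intro m
    exact ⟨(Additive.toMul m : X), (Additive.toMul m : X).2, by rw [hι _ (Additive.toMul m : X).2]; rfl⟩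

/-! ### `K_X` as a group of homomorphisms `W_X / X → X` -/

theorem comm_mul_ws (h : Mid S P V Z) (hX : IsCj Z X) {k w w' : G} (hk : k ∈ kx V X) (hw : w ∈ ws V X)
    (hw' : w' ∈ ws V X) :
    k * (w * w') * k⁻¹ * (w * w')⁻¹ = (k * w * k⁻¹ * w⁻¹) * (k * w' * k⁻¹ * w'⁻¹) := by
  have h1 := (mem_kx.1 hk).2 w' hw'
  have h2 : w * (k * w' * k⁻¹ * w'⁻¹) * w⁻¹ = k * w' * k⁻¹ * w'⁻¹ := by
    rw [h.ws_comm hX hw (h.pt_le_ws hX h1), mul_inv_cancel_right]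
  calc _ = (k * w * k⁻¹ * w⁻¹) * (w * (k * w' * k⁻¹ * w'⁻¹) * w⁻¹) := by group
    _ = _ := by rw [h2]

theorem comm_mul_kx (h : Mid S P V Z) (hX : IsCj Z X) {k k' w : G} (hk : k ∈ kx V X) (hk' : k' ∈ kx V X)
    (hw : w ∈ ws V X) :
    k * k' * w * (k * k')⁻¹ * w⁻¹ = (k * w * k⁻¹ * w⁻¹) * (k' * w * k'⁻¹ * w⁻¹) := by
  have h1 := (mem_kx.1 hk').2 w hw
  have h0 := (mem_kx.1 hk).2 w hw
  have h2 : k * (k' * w * k'⁻¹ * w⁻¹) * k⁻¹ = k' * w * k'⁻¹ * w⁻¹ := by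
    rw [(mem_kx.1 hk).1 _ h1, mul_inv_cancel_right]
  calc _ = (k * (k' * w * k'⁻¹ * w⁻¹) * k⁻¹) * (k * w * k⁻¹ * w⁻¹) := by group
    _ = _ := by rw [h2, h.ws_comm hX (h.pt_le_ws hX h1) (h.pt_le_ws hX h0)]

theorem comm_inv_kx (h : Mid S P V Z) (hX : IsCj Z X) {k w : G} (hk : k ∈ kx V X) (hw : w ∈ ws V X) :
    k⁻¹ * w * k⁻¹⁻¹ * w⁻¹ = (k * w * k⁻¹ * w⁻¹)⁻¹ := by
  have h1 := comm_mul_kx h hX hk (inv_mem hk) hw
  rw [mul_inv_cancel] at h1
  have h2 : (1 : G) * w * (1 : G)⁻¹ * w⁻¹ = 1 := by group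
  rw [h2] at h1
  exact (inv_eq_of_mul_eq_one_right h1.symm).symm

section

variable {M Λ : Type*} [AddCommGroup M] [AddCommGroup Λ] {π : G → M} {ι : G → Λ}

theorem exists_khom (h : Mid S P V Z) (hX : IsCj Z X) (hM : Md V X π) (hΛ : Lm X ι) {k : G} (hk : k ∈ kx V X) :
    ∃ φ : M →+ Λ, ∀ w ∈ ws V X, φ (π w) = ι (k * w * k⁻¹ * w⁻¹) := by
  choose s hs hsm using hM.surj
  have key : ∀ w ∈ ws V X, ι (k * s (π w) * k⁻¹ * (s (π w))⁻¹) = ι (k * w * k⁻¹ * w⁻¹) := by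
    intro w hw
    have h1 := hM.mem_of (hs (π w)) hw (hsm (π w))
    have e : s (π w) = s (π w) * w⁻¹ * w := by group
    rw [e, comm_mul_ws h hX hk (h.pt_le_ws hX h1) hw]
    have e2 : k * (s (π w) * w⁻¹) * k⁻¹ * (s (π w) * w⁻¹)⁻¹ = 1 := by
      rw [(mem_kx.1 hk).1 _ h1]; group
    rw [e2, one_mul]
  refine ⟨{ toFun := fun m => ι (k * s m * k⁻¹ * (s m)⁻¹), map_zero' := ?_, map_add' := ?_ },
    fun w hw => key w hw⟩
  · have h1 := key 1 (one_mem _)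
    rw [hM.map_one] at h1
    rw [h1]
    have e : k * 1 * k⁻¹ * (1 : G)⁻¹ = 1 := by group
    rw [e, hΛ.map_one]
  · intro m n
    have h1 := key (s m * s n) (mul_mem (hs m) (hs n))
    rw [hM.mul _ (hs m) _ (hs n), hsm, hsm, comm_mul_ws h hX hk (hs m) (hs n),
      hΛ.mul _ ((mem_kx.1 hk).2 _ (hs m)) _ ((mem_kx.1 hk).2 _ (hs n))] at h1
    exact h1

theorem exists_kh (h : Mid S P V Z) (hX : IsCj Z X) (hM : Md V X π) (hΛ : Lm X ι) {D : Subgroup G}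
    (hD : D ≤ kx V X) : ∃ Φ : AddSubgroup (M →+ Λ), ∀ φ, φ ∈ Φ ↔
      ∃ k ∈ D, ∀ w ∈ ws V X, φ (π w) = ι (k * w * k⁻¹ * w⁻¹) := by
  refine ⟨{ carrier := {φ | ∃ k ∈ D, ∀ w ∈ ws V X, φ (π w) = ι (k * w * k⁻¹ * w⁻¹)}
            zero_mem' := ?z
            add_mem' := ?a
            neg_mem' := ?n }, fun φ => Iff.rfl⟩
  case z =>
    refine ⟨1, one_mem _, fun w _ => ?_⟩
    have e : 1 * w * (1 : G)⁻¹ * w⁻¹ = 1 := by group
    rw [e, hΛ.map_one]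
    rfl
  case a =>
    rintro φ ψ ⟨k, hk, hφ⟩ ⟨k', hk', hψ⟩
    refine ⟨k * k', mul_mem hk hk', fun w hw => ?_⟩
    rw [AddMonoidHom.add_apply, hφ w hw, hψ w hw, comm_mul_kx h hX (hD hk) (hD hk') hw,
      hΛ.mul _ ((mem_kx.1 (hD hk)).2 w hw) _ ((mem_kx.1 (hD hk')).2 w hw)]
  case n =>
    rintro φ ⟨k, hk, hφ⟩
    refine ⟨k⁻¹, inv_mem hk, fun w hw => ?_⟩
    rw [AddMonoidHom.neg_apply, hφ w hw, comm_inv_kx h hX (hD hk) hw, hΛ.map_inv ((mem_kx.1 (hD hk)).2 w hw)]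

end

/-- an element centralising `X` and one element of `L - X` centralises `L` -/
theorem fix (h : Mid S P V Z) (hX : IsCj Z X) (hL : IsCj V L) (hXL : X ≤ L) {k v : G} (hk : ∀ x ∈ X, k * x = x * k)
    (hv : v ∈ L) (hvX : v ∉ X) (hkv : k * v = v * k) : ∀ u ∈ L, k * u = u * k := by
  obtain ⟨T, Q, h'⟩ := h.flag hX hL hXL
  exact fun u hu => (mem_centralizer_iff.1 (pb_fix h'.pl hk hv hvX hkv) u hu).symm

theorem adj_not_mem (h : Mid S P V Z) (hA : Adj V Z A X) {a : G} (ha : a ∈ A) (ha1 : a ≠ 1) : a ∉ X := fun e =>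
  hA.ne (h.pts_eq hA.left hA.right ha e ha1)

section

variable {M Λ : Type*} [AddCommGroup M] [AddCommGroup Λ] {π : G → M} {ι : G → Λ}

theorem card_le_lamR (h : Mid S P V Z) (hM : Md V X π) (hA : Adj V Z A X) :
    Nat.card A ≤ Nat.card (lamR π A) := by
  have := hM.fin
  refine Nat.card_le_card_of_injective
    (fun a : A => (⟨π a, (mem_lamR hM (h.adj_le_ws hA.symm)).2 ⟨a, a.2, rfl⟩⟩ : lamR π A)) ?_
  intro a b e
  have e1 : π a = π b := congrArg Subtype.val e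
  have h1 := hM.mem_of (h.adj_le_ws hA.symm a.2) (h.adj_le_ws hA.symm b.2) e1
  have h2 : (a : G) * (b : G)⁻¹ ∈ A := mul_mem a.2 (inv_mem b.2)
  apply Subtype.ext
  rw [← mul_inv_eq_one]
  by_contra h3
  exact adj_not_mem h hA h2 h3 h1

/-- `FullK V Z` for every point `X` -/
theorem _root_.Cfsg.Agent.Omega.NO3S.FullK.at {V Z X : Subgroup G} (hF : FullK V Z) (hX : IsCj Z X) {w : G}
    (hw : w ∈ ws V X) (hwX : w ∉ X) {r : G} (hr : r ∈ X) : ∃ k ∈ kx V X, k * w * k⁻¹ * w⁻¹ = r := by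
  obtain ⟨g, rfl⟩ := hX
  rw [ws_cj] at hw
  obtain ⟨k, hk, e⟩ := hF _ (mem_cj.1 hw) (fun e => hwX (mem_cj.2 e)) _ (mem_cj.1 hr)
  refine ⟨g * k * g⁻¹, ?_, ?_⟩
  · rw [kx_cj]
    exact conj_mem_cj hk
  · have e1 : g * k * g⁻¹ * w * (g * k * g⁻¹)⁻¹ * w⁻¹ =
        g * (k * (g⁻¹ * w * g) * k⁻¹ * (g⁻¹ * w * g)⁻¹) * g⁻¹ := by group
    rw [e1, e]
    group

/-- `|M| ≤ |K̂|` -/
theorem card_md_le (h : Mid S P V Z) (hF : FullK V Z) (hX : IsCj Z X) (hM : Md V X π) (hΛ : Lm X ι)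
    {Φ : AddSubgroup (M →+ Λ)}
    (hΦ : ∀ φ, φ ∈ Φ ↔ ∃ k ∈ kx V X, ∀ w ∈ ws V X, φ (π w) = ι (k * w * k⁻¹ * w⁻¹)) :
    Nat.card M ≤ Nat.card Φ := by
  have hfM := hM.fin
  have hfΛ := hΛ.fin
  have hf : Finite (M →+ Λ) := DFunLike.finite _
  have h2 : ∀ a : Λ, a + a = 0 := by
    intro a
    obtain ⟨x, hx, rfl⟩ := hΛ.surj a
    rw [← hΛ.mul x hx x hx, h.pt_sq hX hx, hΛ.map_one]
  obtain ⟨c, hc, hc1⟩ := h.pt_ne_bot hX
  have hc0 : ι c ≠ 0 := fun e => hc1 (hΛ.ker c hc e)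
  obtain ⟨χ, hχ⟩ : ∃ χ : Λ →+ ZMod 2, χ (ι c) ≠ 0 := by
    let _ : Module (ZMod 2) Λ := AddCommGroup.zmodModule (n := 2) (fun a => by rw [two_nsmul]; exact h2 a)
    by_contra hcon
    push Not at hcon
    apply hc0
    rw [← Module.forall_dual_apply_eq_zero_iff (ZMod 2)]
    intro f
    exact hcon f.toAddMonoidHom
  let p : M →+ (Φ →+ ZMod 2) :=
    { toFun := fun m => χ.comp (((AddMonoidHom.eval : M →+ (M →+ Λ) →+ Λ) m).comp Φ.subtype)
      map_zero' := by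
        ext φ
        show χ (φ.1 0) = 0
        rw [map_zero, map_zero]
      map_add' := fun m n => by
        ext φ
        show χ (φ.1 (m + n)) = χ (φ.1 m) + χ (φ.1 n)
        rw [map_add, map_add] }
  refine card_le_of_sep (fun φ => ?_) p ?_
  · apply Subtype.ext
    ext m
    exact h2 (φ.1 m)
  · rw [injective_iff_map_eq_zero]
    intro m hm
    obtain ⟨w, hw, rfl⟩ := hM.surj m
    rw [hM.ker w hw]
    by_contra hwX
    obtain ⟨k, hk, e⟩ := hF.at hX hw hwX hc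
    obtain ⟨φ, hφ⟩ := exists_khom h hX hM hΛ hk
    have h5 : p (π w) ⟨φ, (hΦ φ).2 ⟨k, hk, hφ⟩⟩ = 0 := by rw [hm]; rfl
    have h6 : χ (φ (π w)) = 0 := h5
    rw [hφ w hw, e] at h6
    exact hχ h6

end

/-- **`K̂_X` is full**: `C_{W_X}(K_X ∩ C(L)) = L`. -/
theorem full (h : Mid S P V Z) (hF : FullK V Z) (hX : IsCj Z X) (hL : IsCj V L) (hXL : X ≤ L) {u : G}
    (hu : u ∈ ws V X) (hk : ∀ k ∈ kx V X, (∀ x ∈ L, k * x = x * k) → k * u = u * k) : u ∈ L := by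
  obtain ⟨M, _, π, hM⟩ := exists_md h hX
  obtain ⟨Λ, _, ι, hΛ⟩ := exists_lm h hX
  have hfM := hM.fin
  have hfΛ := hΛ.fin
  have hf : Finite (M →+ Λ) := DFunLike.finite _
  obtain ⟨Φ, hΦ⟩ := exists_kh h hX hM hΛ (D := kx V X) le_rfl
  obtain ⟨Φ', hΦ'⟩ := exists_kh h hX hM hΛ (D := kx V X ⊓ centralizer (L : Set G)) inf_le_left
  have h1 := card_md_le h hF hX hM hΛ hΦ
  obtain ⟨Y, hY, hYL, hYX⟩ := h.exists_second hX hL hXL
  have hadj : Adj V Z Y X := ⟨hY, hX, hYX, L, hL, hYL, hXL⟩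
  obtain ⟨v, hv, hv1⟩ := h.pt_ne_bot hY
  have hvX := adj_not_mem h hadj hv hv1
  have hvW : v ∈ ws V X := h.line_le hL hXL (hYL hv)
  have h2 : Nat.card Φ ≤ Nat.card Φ' * Nat.card Λ := by
    refine card_ev_le Φ Φ' (π v) fun φ hφ e => ?_
    obtain ⟨k, hkK, hφk⟩ := (hΦ φ).1 hφ
    rw [hφk v hvW] at e
    have h3 := Mid.comm_eq (hΛ.ker _ ((mem_kx.1 hkK).2 v hvW) e)
    refine (hΦ' φ).2 ⟨k, ⟨hkK, mem_centralizer_iff.2 fun x hx => ?_⟩, hφk⟩
    exact (fix h hX hL hXL (mem_kx.1 hkK).1 (hYL hv) hvX h3 x hx).symm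
  let C : AddSubgroup M :=
    { carrier := {m | ∀ φ ∈ Φ', φ m = 0}
      zero_mem' := fun φ _ => map_zero φ
      add_mem' := fun {x y} hx hy φ hφ => by rw [map_add, hx φ hφ, hy φ hφ, add_zero]
      neg_mem' := fun {x} hx φ hφ => by rw [map_neg, hx φ hφ, neg_zero] }
  have h3 : Nat.card Φ' * Nat.card C ≤ Nat.card M := by
    refine card_le_of_lines (ι := {A // Adj V Z A X}) (fun A => lamR π A.1) (fun A => ?_) Φ' ?_ ?_ C (fun m hm => hm)
    · rw [hΛ.card, h.card_pt hX, ← h.card_pt A.2.left]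
      exact card_le_lamR h hM A.2
    · intro φ hφ h0
      obtain ⟨k, hkK, hφk⟩ := (hΦ' φ).1 hφ
      ext m
      obtain ⟨w, hw, rfl⟩ := hM.surj m
      have h4 : ws V X ≤ centralizer ({k} : Set G) := by
        refine h.ws_le_of hX (fun x hx => mem_centralizer_singleton_iff.2 ((mem_kx.1 hkK.1).1 x hx).symm)
          fun B hB b hb => mem_centralizer_singleton_iff.2 ?_
        have hbW := h.adj_le_ws hB.symm hb
        have h5 := h0 ⟨B, hB⟩ (π b) ((mem_lamR hM (h.adj_le_ws hB.symm)).2 ⟨b, hb, rfl⟩)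
        rw [hφk b hbW] at h5
        exact (Mid.comm_eq (hΛ.ker _ ((mem_kx.1 hkK.1).2 b hbW) h5)).symm
      rw [hφk w hw, Mid.comm_one (mem_centralizer_singleton_iff.1 (h4 hw)).symm, hΛ.map_one]
      rfl
    · rintro φ hφ ⟨A, hA⟩ b hb hb0 hφb c hc
      obtain ⟨k, hkK, hφk⟩ := (hΦ' φ).1 hφ
      have hAW := h.adj_le_ws hA.symm
      obtain ⟨a, ha, rfl⟩ := (mem_lamR hM hAW).1 hb
      obtain ⟨a', ha', rfl⟩ := (mem_lamR hM hAW).1 hc
      have haX : a ∉ X := fun e => hb0 ((hM.ker a (hAW ha)).2 e)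
      rw [hφk a (hAW ha)] at hφb
      have h5 := Mid.comm_eq (hΛ.ker _ ((mem_kx.1 hkK.1).2 a (hAW ha)) hφb)
      obtain ⟨L', hL', hAL', hXL'⟩ := hA.line
      rw [hφk a' (hAW ha'), Mid.comm_one (fix h hX hL' hXL' (mem_kx.1 hkK.1).1 (hAL' ha) haX h5 a' (hAL' ha')), hΛ.map_one]
  have h4 : Nat.card C ≤ Nat.card (lamR π Y) := by
    have h5 : Nat.card Φ' * Nat.card C ≤ Nat.card Φ' * Nat.card Λ := h3.trans (h1.trans h2)
    have h6 : Nat.card C ≤ Nat.card Λ := Nat.le_of_mul_le_mul_left h5 Nat.card_pos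
    refine h6.trans ?_
    rw [hΛ.card, h.card_pt hX, ← h.card_pt hY]
    exact card_le_lamR h hM hadj
  have hYW := h.adj_le_ws hadj.symm
  have h5 : lamR π Y ≤ C := by
    intro m hm φ hφ
    obtain ⟨y, hy, rfl⟩ := (mem_lamR hM hYW).1 hm
    obtain ⟨k, hkK, hφk⟩ := (hΦ' φ).1 hφ
    rw [hφk y (hYW hy), Mid.comm_one (mem_centralizer_iff.1 hkK.2 y (hYL hy)).symm, hΛ.map_one]
  have h6 : lamR π Y = C := AddSubgroup.eq_of_le_of_card_ge h5 h4
  have h7 : π u ∈ C := by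
    intro φ hφ
    obtain ⟨k, hkK, hφk⟩ := (hΦ' φ).1 hφ
    rw [hφk u hu, Mid.comm_one (hk k hkK.1 fun x hx => (mem_centralizer_iff.1 hkK.2 x hx).symm), hΛ.map_one]
  rw [← h6] at h7
  obtain ⟨y, hy, e⟩ := (mem_lamR hM hYW).1 h7
  have h8 := hM.mem_of hu (hYW hy) e.symm
  have e2 : u = u * y⁻¹ * y := by group
  rw [e2]
  exact mul_mem (hXL h8) (hYL hy)

end

end Cfsg.Agent.Omega.NO3S.MidB.No

end

section


/-!
# NO-3S, critical distance 2, the `(R, B)`-frame: no (D)-pair, plugged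

* `Mid.bad'` : `FullK`, `NOg`, and for every `f ∈ W_B` moving `W_A` a mover `k` without (D): `[W_A, W_B] ≤ R`;
* `Mid.exists_DD` : if some critical pair `(A, B)` has `[W_A, W_B] ≰ R`, then some `f ∈ W_B` moving `W_A` has (D) for all its
  movers.
-/

set_option autoImplicit false

namespace Cfsg.Agent.Omega.NO3S.MidB

open Subgroup Cfsg.Agent.Omega.NO3S.PT Cfsg.Agent.Omega.NoFF.Basic Cfsg.Agent.ZN
open Cfsg.Agent.Omega.NO3S.MidQ (Adj Com Cr UU TypN)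
open Cfsg.Agent.Omega.NO3S.MidB.No

variable {G : Type*} [Group G] [Finite G] {S : Sylow 2 G} {P V Z A R B : Subgroup G}

/-- **no (D)-pair**, plugged -/
theorem Mid.bad' (h : Mid S P V Z) (hF : FullK V Z) (hNO : NOg V Z) (hc : Cr V Z A R B)
    (hmov : ∀ f ∈ ws V B, (∃ w ∈ ws V A, f * w ≠ w * f) → ∃ k, Mv V Z A R B f k ∧ ¬ DD V A R k 1) :
    ∀ a ∈ ws V A, ∀ b ∈ ws V B, a * b * a⁻¹ * b⁻¹ ∈ R :=
  h.bad hNO hc hmov fun _ _ _ hX hY hL hAL hXL hn _ hg _ hy =>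
    lemD h hX hY hXL (fun _ hu hk => full h hF hX.right hL hAL hu hk) hn hg hy

/-- **a (D)-pair exists** if `[W_A, W_B] ≰ R` -/
theorem Mid.exists_DD (h : Mid S P V Z) (hF : FullK V Z) (hNO : NOg V Z) (hc : Cr V Z A R B)
    (hmov : ∀ f ∈ ws V B, (∃ w ∈ ws V A, f * w ≠ w * f) → ∃ k, Mv V Z A R B f k)
    (hne : ¬ ∀ a ∈ ws V A, ∀ b ∈ ws V B, a * b * a⁻¹ * b⁻¹ ∈ R) :
    ∃ f ∈ ws V B, (∃ w ∈ ws V A, f * w ≠ w * f) ∧ (∃ k, Mv V Z A R B f k) ∧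
      ∀ k, Mv V Z A R B f k → DD V A R k 1 := by
  by_contra hcon
  push Not at hcon
  refine hne (h.bad' hF hNO hc fun f hf hfw => ?_)
  obtain ⟨k, hk⟩ := hmov f hf hfw
  exact hcon f hf hfw ⟨k, hk⟩

end Cfsg.Agent.Omega.NO3S.MidB

end
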