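import Cfsg.Agent.Mrg.Omega.NO3S.MidB.Mod
import Cfsg.Agent.Omega.NO3S.MidB.No.McLAct


/-!
# NO-3S, the `(R, B)`-frame, `n = 2`: TYPE N from one flat critical triple (bb OMEGA #19438 step 9, #19900 (3.2), (3.3))

* `TT.act` : an element of `W_C`, `C ~ A ~ R`, is an `ActTf` of `W_R / R`;
* `TT.disp_line` : `[W_C, W_R] ≤ L`, `L` the line on `A`, `R`;
* **`Mid.typN_of_flat`** : a critical triple `(C, A, R)` with `[W_C, W_R] ≤ A` and commuting `w ∈ W_C`, `m ∈ W_R`,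
  `w ∉ C(W_R)`, `m ∉ C(W_C)`, gives `TypN V Z`, if `NF V Z`.
-/

set_option autoImplicit false
set_option linter.unusedSectionVars false

namespace Cfsg.Agent.Omega.NO3S.MidB.No

open Subgroup Cfsg.Agent.Omega.NO3S.PT Cfsg.Agent.Omega.NoFF.Basic Cfsg.Agent.ZN
open Cfsg.Agent.Omega.NO3S.MidQ (Adj Com Cr UU ws_of kx_of isCj_iff adj_iff com_iff cr_iff UU_of isCj_symm isCj_trans
  com_cj UU_cj le_UU normalizer_le_UU isPGroup_sSup TypN McL JJ Kl Dist surj_of_inj comm_inj ActTf)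
open scoped Pointwise

universe u

variable {G : Type u} [Group G] {V Z X Y R L A A' B B' C : Subgroup G}
variable {M : Type*} [AddCommGroup M] {π : G → M}

namespace TT

variable [Finite G] {S : Sylow 2 G} {P : Subgroup G} (h : TT S P V Z)
include h

section

variable (hM : Md V R π)
include hM

/-- `1 + φ` is conjugation by `g` -/
theorem one_add (hA : Adj V Z A R) {g : G} (hg : g ∈ UT V Z R A) {φ : AddMonoid.End M}
    (e : ∀ w ∈ ws V R, φ (π w) = π (g * w * g⁻¹ * w⁻¹)) : ∀ w ∈ ws V R, (1 + φ) (π w) = π (g * w * g⁻¹) := by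
  intro w hw
  show π w + φ (π w) = _
  rw [e w hw, ← hM.mul w hw _ (h.c_ws hA hg hw), h.ws_comm hA.right hw (h.c_ws hA hg hw)]
  congr 1
  group

/-- `1 + φ` is conjugation by `g⁻¹` -/
theorem one_add' (hA : Adj V Z A R) {g : G} (hg : g ∈ UT V Z R A) {φ : AddMonoid.End M}
    (e : ∀ w ∈ ws V R, φ (π w) = π (g * w * g⁻¹ * w⁻¹)) : ∀ w ∈ ws V R, (1 + φ) (π w) = π (g⁻¹ * w * g⁻¹⁻¹) := by
  refine h.one_add hM hA (inv_mem hg) fun w hw => ?_
  rw [h.c_inv hA hg hw, e w hw, h.ws_inv hA.right (h.c_ws hA hg hw)]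

/-- an element of `W_C`, `C ~ A ~ R`, on `W_R / R` -/
theorem act (hA : Adj V Z A R) (hC : Adj V Z C A) {f : G} (hf : f ∈ ws V C) {ν : AddMonoid.End M}
    (hν : ∀ w ∈ ws V R, ν (π w) = π (f * w * f⁻¹)) :
    ActTf (fun i : {A // Adj V Z A R} => lamR π i.1) (fun i => PhiT V Z R π i.1) ⟨A, hA⟩ ν := by
  have hR := hA.right
  have hfU : f ∈ UU V Z A := le_UU hC hf
  have hfR : f ∈ centralizer (R : Set G) := h.UU_le_cent_adj hA.symm hfU
  have hcR : PT.cj f R = R := h.cj_UU_adj hfU hA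
  have hff : f * f = 1 := h.ws_sq hC.left hf
  have hfi : f⁻¹ = f := inv_eq_of_mul_eq_one_left hff
  have hW : ∀ {w : G}, w ∈ ws V R → f * w * f⁻¹ ∈ ws V R := fun hw => conj_ws hcR hw
  have hνν : ∀ w ∈ ws V R, ν (ν (π w)) = π w := by
    intro w hw
    rw [hν w hw, hν _ (hW hw)]
    congr 1
    calc f * (f * w * f⁻¹) * f⁻¹ = (f * f) * w * (f * f)⁻¹ := by group
      _ = w := by rw [hff]; group
  refine ⟨hM.end_ext hνν, fun a ha => ?_, fun j => ?_, fun j ψ hψ j' ψ' hψ' hk hk' => ?_, fun φ hφ j a ha ha0 hin => ?_⟩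
  · obtain ⟨α, hα, rfl⟩ := (h.mem_lam hM hA).1 ha
    rw [hν α (h.adj_ws hA hα)]
    congr 1
    rw [← mem_centralizer_iff.1 (h.UU_le_cent_pt hA.left hfU) α hα, mul_inv_cancel_right]
  · have hk : Adj V Z (PT.cj f j.1) R := by
      have h1 := j.2.cj f
      rwa [hcR] at h1
    refine ⟨⟨PT.cj f j.1, hk⟩, fun m hm => ?_, fun ψ hψ => ?_⟩
    · obtain ⟨b, hb, rfl⟩ := (h.mem_lam hM j.2).1 hm
      rw [hν b (h.adj_ws j.2 hb)]
      exact h.pi_mem hM hk (conj_mem_cj hb)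
    · obtain ⟨g, hg, e⟩ := (h.mem_phi hM j.2).1 hψ
      refine (h.mem_phi hM hk).2 ⟨f * g * f⁻¹, ?_, fun w hw => ?_⟩
      · have h1 := UT_cj V Z R j.1 f
        rw [hcR] at h1
        rw [h1]
        exact conj_mem_cj hg
      · show ν (ψ (ν (π w))) = _
        rw [hν w hw, e _ (hW hw), hν _ (h.c_ws j.2 hg (hW hw))]
        congr 1
        have e1 : f * (f * w * f⁻¹) * f⁻¹ = w := by
          calc f * (f * w * f⁻¹) * f⁻¹ = (f * f) * w * (f * f)⁻¹ := by group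
            _ = w := by rw [hff]; group
        calc f * (g * (f * w * f⁻¹) * g⁻¹ * (f * w * f⁻¹)⁻¹) * f⁻¹
            = f * g * f⁻¹ * (f * (f * w * f⁻¹) * f⁻¹) * (f * g * f⁻¹)⁻¹ * (f * (f * w * f⁻¹) * f⁻¹)⁻¹ := by group
          _ = _ := by rw [e1]
  · obtain ⟨g, hg, e⟩ := (h.mem_phi hM j.2).1 hψ
    obtain ⟨g', hg', e'⟩ := (h.mem_phi hM j'.2).1 hψ'
    have hgA := (h.kl_iff hM j.2 hA hg e).1 hk
    have hgA' := (h.kl_iff hM j'.2 hA hg' e').1 hk'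
    have hyA : g * g' ∈ centralizer (A : Set G) := by
      rw [mem_centralizer_iff]
      intro a ha
      rw [← mul_assoc, ← hgA a ha, mul_assoc, ← hgA' a ha, mul_assoc]
    have hyU : g * g' ∈ normalizer ((UU V Z A : Subgroup G) : Set G) :=
      normalizer_le_UU V Z A (centralizer_le_normalizer _ hyA)
    set t := (g * g')⁻¹ * f * (g * g') * f⁻¹ with ht
    have htU : t ∈ UU V Z A := by
      have h1 := (mem_normalizer_iff.1 (inv_mem hyU) f).1 hfU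
      rw [inv_inv] at h1
      exact mul_mem h1 (inv_mem hfU)
    obtain ⟨n, hn⟩ := h.twoEl_UU htU
    have htR : PT.cj t R = R := h.cj_UU_adj htU hA
    refine ⟨n, ?_⟩
    set T := (1 + ψ') * (1 + ψ) * ν * ((1 + ψ) * (1 + ψ')) * ν with hT
    have hact : ∀ w ∈ ws V R, T (π w) = π (t * w * t⁻¹) := by
      intro w hw
      show (1 + ψ') ((1 + ψ) (ν ((1 + ψ) ((1 + ψ') (ν (π w)))))) = _
      have h1 := hW hw
      have h2 := h.u_ws j'.2 hg' h1
      have h3 := h.u_ws j.2 hg h2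
      have h4 := hW h3
      have h5 := h.u_ws j.2 (inv_mem hg) h4
      rw [hν w hw, h.one_add hM j'.2 hg' e' _ h1, h.one_add hM j.2 hg e _ h2, hν _ h3, h.one_add' hM j.2 hg e _ h4,
        h.one_add' hM j'.2 hg' e' _ h5]
      congr 1
      have e1 : t = (g * g')⁻¹ * f * (g * g') * f := by rw [ht, hfi]
      rw [e1]
      group
    have hpow : ∀ k : ℕ, ∀ w ∈ ws V R, (T ^ k) (π w) = π (t ^ k * w * (t ^ k)⁻¹) := by
      intro k
      induction k with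
      | zero => intro w hw; simp
      | succ k ih =>
        intro w hw
        have e1 : (T ^ (k + 1)) (π w) = (T ^ k) (T (π w)) := by rw [pow_succ]; rfl
        rw [e1, hact w hw, ih _ (conj_ws htR hw)]
        congr 1
        rw [pow_succ]
        group
    refine hM.end_ext fun w hw => ?_
    rw [hpow _ w hw, hn]
    simp
  · obtain ⟨u, hu, e⟩ := (h.mem_phi hM hA).1 hφ
    obtain ⟨β, hβ, rfl⟩ := (h.mem_lam hM j.2).1 ha
    have hβW := h.adj_ws j.2 hβ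
    have hβ1 : β ≠ 1 := fun e => ha0 (by rw [e, hM.map_one])
    have e1 : ν (π β) + φ (ν (π β)) = π (u * f * β * (u * f)⁻¹) := by
      have h1 := h.one_add hM hA hu e _ (hW hβW)
      have h2 : ν (π β) + φ (ν (π β)) = π (u * (f * β * f⁻¹) * u⁻¹) := by
        rw [hν β hβW]
        exact h1
      rw [h2]
      congr 1
      group
    have hxU : u * f ∈ UU V Z A := mul_mem (UT_le_UU hu) hfU
    have hxR : u * f ∈ centralizer (R : Set G) := h.UU_le_cent_adj hA.symm hxU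
    have hxW : u * f * β * (u * f)⁻¹ ∈ ws V R := conj_ws (h.cj_UU_adj hxU hA) hβW
    rw [e1] at hin ⊢
    obtain ⟨β', hβ', e2⟩ := (h.mem_lam hM j.2).1 hin
    obtain ⟨L, hL, hjL, hRL⟩ := j.2.line
    have h1 : u * f * β * (u * f)⁻¹ * β'⁻¹ ∈ R := hM.mem_of hxW (h.adj_ws j.2 hβ') e2.symm
    have h2 : u * f * β * (u * f)⁻¹ ∈ L := by
      have e3 : u * f * β * (u * f)⁻¹ = u * f * β * (u * f)⁻¹ * β'⁻¹ * β' := by group
      rw [e3]
      exact mul_mem (hRL h1) (hjL hβ')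
    have hβR : β ∉ R := fun e => hβ1 (h.inf_R j.2 hβ e)
    have h3 := h.stab hR hL hRL (centralizer_le_normalizer _ hxR) (hjL hβ) hβR h2
    have h4 := h.act_line hR hL hRL (h.twoEl_UU hxU) hxR h3 β (hjL hβ)
    exact hM.eq_of hxW hβW h4

/-- `[W_C, W_R] ≤ L`, `L` the line on `A`, `R`, `C ~ A` -/
theorem disp_line (hB : McL.Big (fun i : {A // Adj V Z A R} => lamR π i.1) (fun i => PhiT V Z R π i.1))
    (hNF : NF V Z) (hA : Adj V Z A R) (hC : Adj V Z C A) (hL : IsCj V L) (hAL : A ≤ L) (hRL : R ≤ L) {f w : G}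
    (hf : f ∈ ws V C) (hw : w ∈ ws V R) : f * w * f⁻¹ * w⁻¹ ∈ L := by
  have hR := hA.right
  have hfU : f ∈ UU V Z A := le_UU hC hf
  have hfR : f ∈ centralizer (R : Set G) := h.UU_le_cent_adj hA.symm hfU
  have hcR : PT.cj f R = R := h.cj_UU_adj hfU hA
  obtain ⟨ν, hν⟩ := exists_conj_end hM hcR
  have hact := h.act hM hA hC hf hν
  have hLW : L ≤ ws V R := h.line_le hL hRL
  have hcW : ∀ {w : G}, w ∈ ws V R → f * w * f⁻¹ * w⁻¹ ∈ ws V R := fun hw => mul_mem (conj_ws hcR hw) (inv_mem hw)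
  let K : Subgroup G :=
    { carrier := {w | w ∈ ws V R ∧ f * w * f⁻¹ * w⁻¹ ∈ L}
      one_mem' := ⟨one_mem _, by simp⟩
      mul_mem' := by
        rintro a b ⟨ha, ha'⟩ ⟨hb, hb'⟩
        refine ⟨mul_mem ha hb, ?_⟩
        have h1 := h.ws_comm hR ha (hcW hb)
        have e : f * (a * b) * f⁻¹ * (a * b)⁻¹ = f * a * f⁻¹ * a⁻¹ * (f * b * f⁻¹ * b⁻¹) := by
          calc f * (a * b) * f⁻¹ * (a * b)⁻¹ = f * a * f⁻¹ * a⁻¹ * (a * (f * b * f⁻¹ * b⁻¹)) * a⁻¹ := by group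
            _ = _ := by rw [h1]; group
        rw [e]
        exact mul_mem ha' hb'
      inv_mem' := by
        rintro a ⟨ha, ha'⟩
        refine ⟨inv_mem ha, ?_⟩
        have h1 := h.ws_comm hR (inv_mem ha) (inv_mem (hcW ha))
        have e : f * a⁻¹ * f⁻¹ * a⁻¹⁻¹ = (f * a * f⁻¹ * a⁻¹)⁻¹ := by
          calc f * a⁻¹ * f⁻¹ * a⁻¹⁻¹ = a⁻¹ * (f * a * f⁻¹ * a⁻¹)⁻¹ * a := by group
            _ = _ := by rw [h1]; group
        rw [e]
        exact inv_mem ha' }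
  have hK : ws V R ≤ K := by
    refine h.ws_le_of hR (fun r hr => ⟨h.pt_le_ws hR hr, ?_⟩) (fun B hB' b hb => ⟨h.adj_ws hB' hb, ?_⟩)
    · rw [← mem_centralizer_iff.1 hfR r hr]
      simp
    · have hbW := h.adj_ws hB' hb
      have h1 := (h.mcl hM hR).disp hB (h.dist hM hNF hR) hact ⟨B, hB'⟩ (h.pi_mem hM hB' hb)
      have h2 : ν (π b) + π b = π (f * b * f⁻¹ * b⁻¹) := by
        rw [hν b hbW, hM.mul _ (conj_ws hcR hbW) _ (inv_mem hbW), h.ws_inv hR hbW]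
      rw [h2] at h1
      obtain ⟨a, ha, e⟩ := (h.mem_lam hM hA).1 h1
      have h3 : f * b * f⁻¹ * b⁻¹ * a⁻¹ ∈ R := hM.mem_of (hcW hbW) (h.adj_ws hA ha) e.symm
      have e3 : f * b * f⁻¹ * b⁻¹ = f * b * f⁻¹ * b⁻¹ * a⁻¹ * a := by group
      rw [e3]
      exact mul_mem (hRL h3) (hAL ha)
  exact (hK hw).2

end

/-- two different lines on `R` meet in `R` -/
theorem inf_lines (hR : IsCj Z R) {L' : Subgroup G} (hL : IsCj V L) (hL' : IsCj V L') (hRL : R ≤ L) (hRL' : R ≤ L')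
    (hne : L ≠ L') {v : G} (hv : v ∈ L) (hv' : v ∈ L') : v ∈ R := by
  by_cases hv1 : v = 1
  · rw [hv1]; exact one_mem _
  obtain ⟨D, hD, hDL, hvD⟩ := h.exists_point hL hv hv1
  obtain ⟨D', hD', hDL', hvD'⟩ := h.exists_point hL' hv' hv1
  have h1 : D = D' := h.pts_eq hD hD' hvD hvD' hv1
  by_cases h2 : D = R
  · rw [← h2]; exact hvD
  · exact absurd (h.line_unique hR hD (Ne.symm h2) hL hL' hRL hDL hRL' (h1 ▸ hDL')) hne

end TT

end Cfsg.Agent.Omega.NO3S.MidB.No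

namespace Cfsg.Agent.Omega.NO3S.MidB

open Subgroup Cfsg.Agent.Omega.NO3S.PT Cfsg.Agent.Omega.NoFF.Basic Cfsg.Agent.ZN Cfsg.Agent.Omega.NO3S.MidB.No
open Cfsg.Agent.Omega.NO3S.MidQ (Adj Com Cr UU TypN)

variable {G : Type*} [Group G] [Finite G] {S : Sylow 2 G} {P V Z C A R : Subgroup G}

/-- **TYPE N from one flat critical triple** -/
theorem Mid.typN_of_flat (h : Mid S P V Z) (hNF : NF V Z) (hc : Cr V Z C A R)
    (hi : ∀ a ∈ ws V C, ∀ b ∈ ws V R, a * b * a⁻¹ * b⁻¹ ∈ A) {w m : G} (hw : w ∈ ws V C) (hm : m ∈ ws V R)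
    (hwm : w * m = m * w) (hw' : ∃ b ∈ ws V R, w * b ≠ b * w) (hm' : ∃ a ∈ ws V C, a * m ≠ m * a) : TypN V Z := by
  have hT : TT S P V Z := ⟨h, C, A, R, hc, hi⟩
  -- `[W_D, W_X] ≤ L` for every `D ~ Y ~ X`, `L` the line on `Y`, `X`
  have key : ∀ X Y D L : Subgroup G, Adj V Z Y X → Adj V Z D Y → IsCj V L → Y ≤ L → X ≤ L → ∀ f ∈ ws V D,
      ∀ x ∈ ws V X, f * x * f⁻¹ * x⁻¹ ∈ L := by
    intro X Y D L hYX hDY hL hYL hXL f hf x hx
    obtain ⟨g, hg⟩ : ∃ g : G, PT.cj g R = X := by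
      obtain ⟨a, ha⟩ := hc.r.right
      obtain ⟨b, hb⟩ := hYX.right
      exact ⟨b * a⁻¹, by rw [ha, hb, cj_cj, inv_mul_cancel_right]⟩
    obtain ⟨M, _, π, hM⟩ := exists_md h hYX.right
    have hc' := hc.cj g
    have hi' : Flat V (PT.cj g C) (PT.cj g A) (PT.cj g R) := Flat.cj hi g
    rw [hg] at hc' hi'
    have hcw : ∀ {K : Subgroup G} {y : G}, y ∈ ws V K → g * y * g⁻¹ ∈ ws V (PT.cj g K) := fun hy => by
      rw [ws_cj]
      exact conj_mem_cj hy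
    have hmX : g * m * g⁻¹ ∈ ws V X := by
      have := hcw hm
      rwa [hg] at this
    refine hT.disp_line hM (hT.big hM hc' hi' (hcw hw) hmX ?_ ?_ ?_) hNF hYX hDY hL hYL hXL hf hx
    · calc g * w * g⁻¹ * (g * m * g⁻¹) = g * (w * m) * g⁻¹ := by group
        _ = g * m * g⁻¹ * (g * w * g⁻¹) := by rw [hwm]; group
    · obtain ⟨b, hb, hne⟩ := hw'
      refine ⟨g * b * g⁻¹, ?_, fun e => hne ?_⟩
      · have := hcw hb
        rwa [hg] at this
      · have h3 := congrArg (fun t => g⁻¹ * t * g) e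
        simpa [mul_assoc] using h3
    · obtain ⟨a, ha, hne⟩ := hm'
      refine ⟨g * a * g⁻¹, hcw ha, fun e => hne ?_⟩
      have h3 := congrArg (fun t => g⁻¹ * t * g) e
      simpa [mul_assoc] using h3
  intro X R' Y hcr a ha b hb
  obtain ⟨L, hL, hXL, hRL⟩ := hcr.l.line
  obtain ⟨L', hL', hRL', hYL'⟩ := hcr.r.line
  have hne : L ≠ L' := by
    rintro rfl
    exact h.cr_not_le hcr hL hYL' hXL
  -- centre `Y`: `[W_X, W_Y] ≤ L'`
  have h1 := key Y R' X L' hcr.r hcr.l hL' hRL' hYL' a ha b hb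
  -- centre `X`
  have h2 := key X R' Y L hcr.l.symm hcr.r.symm hL hRL hXL b hb a ha
  have h3 : a * b * a⁻¹ * b⁻¹ ∈ L := by
    have e : a * b * a⁻¹ * b⁻¹ = (b * a * b⁻¹ * a⁻¹)⁻¹ := by group
    rw [e]
    exact inv_mem h2
  exact hT.inf_lines hcr.l.right hL hL' hRL hRL' hne h3 h1

end Cfsg.Agent.Omega.NO3S.MidB
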